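import Mathlib.CategoryTheory.Sites.DenseSubsite.InducedTopology
import Mathlib.CategoryTheory.Sites.SheafCohomology.Basic
import Mathlib.CategoryTheory.Abelian.Injective.Ext
import Mathlib.Algebra.Homology.DerivedCategory.Ext.MapBijective
import Mathlib.CategoryTheory.Sites.ConstantSheaf

/-!
# Cohomology and dense subsites

For a dense subsite the restriction equivalence identifies the sheaf cohomology functors; no final
object is needed.
-/

universe w w' w''

open CategoryTheory Limits Opposite Abelian

set_option linter.style.haveILetI false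

namespace Groth.FlatMor2.AlgSpColim

variable {C : Type*} [Category* C] {D : Type*} [Category* D] (J : GrothendieckTopology C)
  (K : GrothendieckTopology D) (G : C ⥤ D) [G.IsDenseSubsite J K]
  [∀ X : Dᵒᵖ, HasLimitsOfShape (StructuredArrow X G.op) AddCommGrpCat.{w}]
  [HasSheafify J AddCommGrpCat.{w}] [HasSheafify K AddCommGrpCat.{w}]

/-- Restriction to the dense subsite. -/
noncomputable abbrev res : Sheaf K AddCommGrpCat.{w} ⥤ Sheaf J AddCommGrpCat.{w} :=
  G.sheafPushforwardContinuous AddCommGrpCat.{w} J K

/-- Restriction takes constant sheaves to constant sheaves. -/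
noncomputable def constIso (Z : AddCommGrpCat.{w}) :
    (constantSheaf J AddCommGrpCat.{w}).obj Z ≅ (res J K G).obj ((constantSheaf K AddCommGrpCat.{w}).obj Z) :=
  (Functor.IsDenseSubsite.sheafEquivSheafificationCompatibility (A := AddCommGrpCat.{w}) J K G).app
    ((Functor.const Dᵒᵖ).obj Z)

variable [HasExt.{w'} (Sheaf J AddCommGrpCat.{w})] [HasExt.{w'} (Sheaf K AddCommGrpCat.{w})]
  [EnoughInjectives (Sheaf K AddCommGrpCat.{w})]

/-- The isomorphism of cohomology functors. -/
noncomputable def functorHIso (p : ℕ) :
    (Sheaf.functorH K p : Sheaf K AddCommGrpCat.{w} ⥤ AddCommGrpCat.{w'}) ≅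
      res J K G ⋙ (Sheaf.functorH J p : Sheaf J AddCommGrpCat.{w} ⥤ AddCommGrpCat.{w'}) :=
  haveI : (res J K G).Additive := Functor.additive_of_preserves_binary_products _
  haveI : (res J K G).PreservesInjectiveObjects :=
    Functor.preservesInjectiveObjects_of_adjunction_of_preservesMonomorphisms
      ((res J K G).asEquivalence.symm.toAdjunction)
  let Z : AddCommGrpCat.{w} := AddCommGrpCat.of (ULift.{w} ℤ)
  NatIso.ofComponents
    (fun F => AddEquiv.toAddCommGrpIso
      (X := AddCommGrpCat.of (Ext ((constantSheaf K AddCommGrpCat.{w}).obj Z) F p))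
      (Y := AddCommGrpCat.of (Ext ((res J K G).obj ((constantSheaf K AddCommGrpCat.{w}).obj Z))
        ((res J K G).obj F) p))
      (AddEquiv.ofBijective
        ((res J K G).mapExtAddHom ((constantSheaf K AddCommGrpCat.{w}).obj Z) F p)
        ((res J K G).mapExt_bijective_of_preservesInjectiveObjects _ _ p)) ≪≫
      ((Abelian.extFunctor.{w'} p).mapIso (constIso J K G Z).op).app ((res J K G).obj F))
    (fun {F F'} f => by
      ext (x : Ext ((constantSheaf K AddCommGrpCat.{w}).obj Z) F p)
      change (Ext.mk₀ (constIso J K G Z).hom).comp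
          ((x.comp (Ext.mk₀ f) (add_zero p)).mapExactFunctor (res J K G)) (zero_add p) =
        ((Ext.mk₀ (constIso J K G Z).hom).comp (x.mapExactFunctor (res J K G)) (zero_add p)).comp
          (Ext.mk₀ ((res J K G).map f)) (add_zero p)
      rw [Ext.mapExactFunctor_comp, Ext.mapExactFunctor_mk₀, Ext.comp_assoc_of_third_deg_zero])

end Groth.FlatMor2.AlgSpColim
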