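import Groth.Agent.FlatMor2.AlgSpColim.QcSite
import Groth.Agent.FlatMor2.AlgSpColim.HEquiv
import Groth.Agent.FlatMor2.ColimCoh.SiteTerminal

/-!
# Étale cohomology of qcqs algebraic spaces commutes with filtered colimits
-/

set_option autoImplicit false
set_option linter.style.haveILetI false

universe u

open CategoryTheory CategoryTheory.Limits AlgebraicGeometry Opposite AlgSp

namespace Groth.FlatMor2.AlgSpColim

theorem preservesColimitsOfShape_hEtF {S : Scheme.{u}} [QuasiSeparatedSpace ↥S] (X : AlgSp.Space S)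
    (hqc : IsQuasiCompactSp X.obj) (hqs : IsQuasiSeparatedSp X.obj) (I : Type (u + 1))
    [SmallCategory I] [IsFiltered I] (p : ℕ) : PreservesColimitsOfShape I (HEtF X.obj p) := by
  obtain ⟨U, c, hU, he, hs⟩ := Groth.AlgSpBasic.exists_affine_chart X.property hqc
  haveI := hasBinaryProducts hqs
  obtain ⟨U₀, hU₀⟩ := exists_cover hqs c he hs
  haveI h1 := FlatMor2.ColimCoh.QCSite.preservesColimitsOfShape_functorH.{u + 1} (I := I)
      (fun A => isQCSite X.obj A) (fun _ : Fin 1 => U₀) hU₀ p
  haveI h2 : PreservesColimitsOfShape I (res.{u + 1} (qcTop X.obj) (etTop X.obj) (incl X.obj)) :=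
    inferInstance
  exact preservesColimitsOfShape_of_natIso
    (functorHIso.{u + 1, u + 1} (qcTop X.obj) (etTop X.obj) (incl X.obj) p).symm

end Groth.FlatMor2.AlgSpColim
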