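import Groth.Agent.AlgSpBasic.Diag
import Groth.Agent.AlgSpBasic.Sep
import Groth.Prelude.Def_SGA4c
import Groth.Agent.AlgSpBasic.Compact
import Groth.Prelude.Def_AlgSpOX
import Mathlib.CategoryTheory.Category.ULift
import Mathlib.CategoryTheory.Sites.DenseSubsite.InducedTopology

/-!
# The site of quasi-compact quasi-separated schemes étale over an algebraic space
-/

set_option autoImplicit false
set_option linter.style.haveILetI false

universe u

open CategoryTheory CategoryTheory.Limits AlgebraicGeometry Opposite AlgSp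
open Groth.AlgSpBasic

namespace Groth.FlatMor2.AlgSpColim

variable {S : Scheme.{u}} (X : Sp S)

/-- Objects of the small étale site with quasi-compact quasi-separated underlying scheme. -/
def qcqs : ObjectProperty (EtOver X) :=
  fun E => CompactSpace ↥E.obj.left.left ∧ QuasiSeparatedSpace ↥E.obj.left.left

/-- The small category of these objects. -/
abbrev Qc : Type (u + 1) := ULiftHom.{u + 1} (qcqs X).FullSubcategory

/-- The inclusion into the small étale site. -/
abbrev incl : Qc X ⥤ EtOver X := ULiftHom.down ⋙ (qcqs X).ι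

instance : (qcqs X).IsClosedUnderIsomorphisms where
  of_iso {E E'} e h := by
    let f : E.obj.left.left ≅ E'.obj.left.left := (EtOver.toScheme X).mapIso e
    have : CompactSpace ↥E.obj.left.left := h.1
    have : QuasiSeparatedSpace ↥E.obj.left.left := h.2
    exact ⟨(Scheme.Hom.homeomorph f.hom).compactSpace,
      quasiSeparatedSpace_of_quasiSeparated f.inv⟩

/-- Pullbacks of qcqs schemes are qcqs. -/
lemma qcqs_of_isPullback {W A B C : Scheme.{u}} {p : W ⟶ A} {q : W ⟶ B} {f : A ⟶ C} {g : B ⟶ C}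
    (sq : IsPullback p q f g) [CompactSpace A] [QuasiSeparatedSpace A] [CompactSpace B]
    [QuasiSeparatedSpace B] [QuasiSeparatedSpace C] : CompactSpace W ∧ QuasiSeparatedSpace W := by
  have : QuasiCompact q := MorphismProperty.of_isPullback sq (inferInstance : QuasiCompact f)
  have : QuasiSeparated q := MorphismProperty.of_isPullback sq (inferInstance : QuasiSeparated f)
  exact ⟨QuasiCompact.compactSpace_of_compactSpace q, quasiSeparatedSpace_of_quasiSeparated q⟩

instance : (qcqs X).IsClosedUnderLimitsOfShape WalkingCospan :=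
  ObjectProperty.IsClosedUnderLimitsOfShape.mk' (by
    rintro _ ⟨F, hF⟩
    have sq := (IsPullback.of_isLimit_cone (limit.isLimit F)).map (EtOver.toScheme X)
    have : CompactSpace ↥((EtOver.toScheme X).obj (F.obj .left)) := (hF .left).1
    have : QuasiSeparatedSpace ↥((EtOver.toScheme X).obj (F.obj .left)) := (hF .left).2
    have : CompactSpace ↥((EtOver.toScheme X).obj (F.obj .right)) := (hF .right).1
    have : QuasiSeparatedSpace ↥((EtOver.toScheme X).obj (F.obj .right)) := (hF .right).2
    have : QuasiSeparatedSpace ↥((EtOver.toScheme X).obj (F.obj .one)) := (hF .one).2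
    exact qcqs_of_isPullback sq)

lemma qcqs_of_mono {W Y : Scheme.{u}} (d : W ⟶ Y) (hd : QuasiCompact d) (hm : Mono d)
    (hc : CompactSpace Y) (hq : QuasiSeparatedSpace Y) : CompactSpace W ∧ QuasiSeparatedSpace W :=
  ⟨QuasiCompact.compactSpace_of_compactSpace d, quasiSeparatedSpace_of_quasiSeparated d⟩

lemma qcqs_prodObj {X : Sp S} [QuasiSeparatedSpace ↥S] (hqs : IsQuasiSeparatedSp X) {E₁ E₂ : EtOver X}
    (h₁ : qcqs X E₁) (h₂ : qcqs X E₂) : qcqs X (EtOver.prodObj E₁ E₂) := by
  let a := E₂.property.1.fst' E₁.obj.hom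
  let b := E₂.property.1.snd E₁.obj.hom
  have sq : IsPullback ((yon S).map a) ((yon S).map b) E₂.obj.hom E₁.obj.hom :=
    Functor.relativelyRepresentable.isPullback' _ _
  have hd := prop_lift_of_repWith_diag hqs sq
  have : CompactSpace ↥E₁.obj.left.left := h₁.1
  have : QuasiSeparatedSpace ↥E₁.obj.left.left := h₁.2
  have : CompactSpace ↥E₂.obj.left.left := h₂.1
  have : QuasiSeparatedSpace ↥E₂.obj.left.left := h₂.2
  obtain ⟨hc, hq⟩ := qcqs_of_isPullback (isPullback_prod_left E₂.obj.left E₁.obj.left)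
  have : Mono (prod.lift a b) := ⟨fun {T} x y e => (yon S).map_injective (sq.hom_ext
    (by
      rw [← Functor.map_comp, ← Functor.map_comp]
      refine congrArg (yon S).map ?_
      simpa only [Category.assoc, prod.lift_fst] using e =≫ prod.fst)
    (by
      rw [← Functor.map_comp, ← Functor.map_comp]
      refine congrArg (yon S).map ?_
      simpa only [Category.assoc, prod.lift_snd] using e =≫ prod.snd))⟩
  exact qcqs_of_mono _ hd (inferInstanceAs (Mono ((Over.forget S).map (prod.lift a b)))) hc hq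

/-- Binary products stay qcqs for a quasi-separated space. -/
lemma isClosedUnderLimitsOfShape_pair {X : Sp S} [QuasiSeparatedSpace ↥S] (hqs : IsQuasiSeparatedSp X) :
    (qcqs X).IsClosedUnderLimitsOfShape (Discrete WalkingPair) :=
  ObjectProperty.IsClosedUnderLimitsOfShape.mk' (by
    rintro _ ⟨F, hF⟩
    exact (qcqs X).prop_of_iso ((HasLimit.isoOfNatIso (diagramIsoPair F) ≪≫
      (limit.isLimit _).conePointUniqueUpToIso (EtOver.prodIsLimit _ _)).symm)
      (qcqs_prodObj hqs (hF _) (hF _)))

instance : HasPullbacks (Qc X) :=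
  Adjunction.hasLimitsOfShape_of_equivalence (ULiftHom.equiv (C := (qcqs X).FullSubcategory)).inverse

lemma hasBinaryProducts {X : Sp S} [QuasiSeparatedSpace ↥S] (hqs : IsQuasiSeparatedSp X) :
    HasBinaryProducts (Qc X) :=
  haveI := isClosedUnderLimitsOfShape_pair hqs
  Adjunction.hasLimitsOfShape_of_equivalence (ULiftHom.equiv (C := (qcqs X).FullSubcategory)).inverse

/-- An open subscheme of an object, as an object. -/
noncomputable def openObj {X : Sp S} (E : EtOver X) (U : E.obj.left.left.Opens) : EtOver X :=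
  EtOver.mk ((yon S).map (Over.homMk U.ι rfl : Over.mk (U.ι ≫ E.obj.left.hom) ⟶ E.obj.left) ≫ E.obj.hom)
    ((repWith_isMultiplicative (S := S) @Etale).comp_mem _ _
      ((repWith_yon_map_iff _ _).2 (inferInstanceAs (Etale U.ι))) E.property)

/-- Its inclusion. -/
noncomputable def openHom {X : Sp S} (E : EtOver X) (U : E.obj.left.left.Opens) : openObj E U ⟶ E :=
  EtOver.homMk (Over.homMk U.ι rfl) rfl

instance : (incl X).Full :=
  haveI : (ULiftHom.equiv (C := (qcqs X).FullSubcategory)).inverse.Full := inferInstance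
  inferInstanceAs ((ULiftHom.equiv (C := (qcqs X).FullSubcategory)).inverse ⋙ (qcqs X).ι).Full

instance : (incl X).Faithful :=
  inferInstanceAs ((ULiftHom.equiv (C := (qcqs X).FullSubcategory)).inverse ⋙ (qcqs X).ι).Faithful

instance : (incl X).IsCoverDense (etTop X) where
  is_cover E := by
    refine (etTop X).superset_covering ?_ (ofArrows_mem_etTop
      (fun U : E.obj.left.left.affineOpens => openObj E U.1) (fun U => openHom E U.1) fun x => ?_)
    · rw [Sieve.ofArrows, Sieve.generate_le_iff, Presieve.ofArrows_le_iff]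
      intro U
      have h : qcqs X (openObj E U.1) :=
        haveI : IsAffine U.1.toScheme := U.2
        ⟨inferInstanceAs (CompactSpace U.1.toScheme), inferInstanceAs (QuasiSeparatedSpace U.1.toScheme)⟩
      exact Presieve.in_coverByImage (incl X) (Y := ULiftHom.objUp ⟨openObj E U.1, h⟩) (openHom E U.1)
    · obtain ⟨U, hU, hx, -⟩ := E.obj.left.left.isBasis_affineOpens.exists_subset_of_mem_open
        (Set.mem_univ x) isOpen_univ
      obtain ⟨V, hV, rfl⟩ := hU
      exact ⟨⟨V, hV⟩, ⟨x, hx⟩, rfl⟩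

/-- The induced topology. -/
noncomputable abbrev qcTop : GrothendieckTopology (Qc X) := (incl X).inducedTopology (etTop X)

variable {X} in
lemma exists_range_of_mem {E : EtOver X} {R : Sieve E} (hR : R ∈ etTop X E) (x : ↥E.obj.left.left) :
    ∃ (V : EtOver X) (g : V ⟶ E), R g ∧ x ∈ Set.range g.hom.left.left := by
  obtain ⟨P, hP, hle⟩ := (Precoverage.mem_toGrothendieck_iff_of_isStableUnderComposition (J := etPre X)).1 hR
  obtain ⟨ι, Y, g, rfl⟩ := P.exists_eq_ofArrows
  obtain ⟨i, hi⟩ := (ofArrows_mem_etPre_iff Y g).1 hP x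
  exact ⟨Y i, g i, hle _ _ ⟨i⟩, hi⟩

lemma isQCSite (A : Qc X) : ToposFin.IsQCSite (qcTop X) A := by
  intro R hR
  rw [Functor.mem_inducedTopology_iff_of_isCoverDense] at hR
  have : CompactSpace ↥((incl X).obj A).obj.left.left := (ULiftHom.objDown A).property.1
  have hx : ∀ x : ↥((incl X).obj A).obj.left.left, ∃ (V : Qc X) (s : V ⟶ A), R s ∧
      x ∈ Set.range ((incl X).map s).hom.left.left := fun x => by
    obtain ⟨W, g, ⟨V, s, h, hs, rfl⟩, y, hy⟩ := exists_range_of_mem hR x
    exact ⟨V, s, hs, h.hom.left.left y, hy⟩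
  choose V s hs hxs using hx
  obtain ⟨t, ht⟩ := isCompact_univ.elim_finite_subcover
    (fun x => Set.range ((incl X).map (s x)).hom.left.left)
    (fun x => haveI := EtOver.etale_left ((incl X).map (s x));
      Scheme.Hom.isOpenMap ((incl X).map (s x)).hom.left.left |>.isOpen_range)
    (fun x _ => Set.mem_iUnion.2 ⟨x, hxs x⟩)
  refine ⟨t.card, fun k => V (t.equivFin.symm k).1, fun k => s (t.equivFin.symm k).1, fun k => hs _, ?_⟩
  rw [Functor.mem_inducedTopology_iff_of_isCoverDense]
  refine (etTop X).superset_covering ?_ (ofArrows_mem_etTop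
    (fun k : Fin t.card => (incl X).obj (V (t.equivFin.symm k).1))
    (fun k => (incl X).map (s (t.equivFin.symm k).1)) fun x => ?_)
  · rw [Sieve.ofArrows, Sieve.generate_le_iff, Presieve.ofArrows_le_iff]
    intro k
    exact ⟨_, s _, 𝟙 _, Sieve.ofArrows_mk _ _ k, (Category.id_comp _).symm⟩
  · obtain ⟨z, hz, hxz⟩ := Set.mem_iUnion₂.1 (ht (Set.mem_univ x))
    have key : ∀ q : t, q = ⟨z, hz⟩ → x ∈ Set.range ((incl X).map (s q.1)).hom.left.left := by
      rintro _ rfl
      exact hxz
    exact ⟨t.equivFin ⟨z, hz⟩, key _ (Equiv.symm_apply_apply _ _)⟩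

/-- Finitely many (indeed one) objects cover everything when the space is quasi-compact. -/
theorem exists_cover {X : Sp S} [QuasiSeparatedSpace ↥S] [HasBinaryProducts (Qc X)]
    (hqs : IsQuasiSeparatedSp X) {U : Over S} (p : (yon S).obj U ⟶ X) [IsAffine U.left]
    (he : RepWith @Etale p) (hs : RepWith @Surjective p) :
    ∃ U₀ : Qc X, ∀ W : Qc X,
      Sieve.ofArrows (fun _ : Fin 1 => W ⨯ U₀) (fun _ => (prod.fst : W ⨯ U₀ ⟶ W)) ∈ qcTop X W := by
  have h₀ : qcqs X (EtOver.mk p he) :=
    ⟨inferInstanceAs (CompactSpace U.left), inferInstanceAs (QuasiSeparatedSpace U.left)⟩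
  refine ⟨ULiftHom.objUp ⟨EtOver.mk p he, h₀⟩, fun W => ?_⟩
  rw [Functor.mem_inducedTopology_iff_of_isCoverDense]
  let E := (incl X).obj W
  let P : Qc X := ULiftHom.objUp ⟨EtOver.prodObj E (EtOver.mk p he),
    qcqs_prodObj hqs (ULiftHom.objDown W).property h₀⟩
  let π₁ : P ⟶ W := (incl X).preimage (X := P) (Y := W) (EtOver.prodFst E (EtOver.mk p he))
  let π₂ : P ⟶ ULiftHom.objUp ⟨EtOver.mk p he, h₀⟩ :=
    (incl X).preimage (X := P) (EtOver.prodSnd E (EtOver.mk p he))
  refine (etTop X).superset_covering ?_ (ofArrows_mem_etTop (fun _ : Fin 1 => (incl X).obj P)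
    (fun _ => (incl X).map π₁) fun x => ?_)
  · rw [Sieve.ofArrows, Sieve.generate_le_iff, Presieve.ofArrows_le_iff]
    intro _
    exact ⟨P, π₁, 𝟙 _, (Sieve.mem_ofArrows_iff _ _ _).2 ⟨0, prod.lift π₁ π₂, (prod.lift_fst _ _).symm⟩,
      (Category.id_comp _).symm⟩
  · have : Surjective (EtOver.prodFst E (EtOver.mk p he)).hom.left.left :=
      hs.property _ _ _ ((EtOver.mk p he).property.1.isPullback E.obj.hom)
    obtain ⟨y, hy⟩ := (EtOver.prodFst E (EtOver.mk p he)).hom.left.left.surjective x
    exact ⟨0, y, by rw [(incl X).map_preimage]; exact hy⟩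

end Groth.FlatMor2.AlgSpColim
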